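import Cfsg.Agent.Lib.SympInvolution.Frame
/-
Frames for symplectic matrices whose square is a scalar.
* `exists_frame_matrix` : a frame of the whole space, for `x` in the symplectic group with `x²` scalar
-/

set_option autoImplicit false

open Matrix

namespace Cfsg.Agent.SympInvolution

variable {F : Type*} [Field F] {d : ℕ}

/-- `Cfsg.sympForm` as a bilinear form. -/
def sympBilin (d : ℕ) (F : Type*) [Field F] : LinearMap.BilinForm F (Fin d ⊕ Fin d → F) :=
  LinearMap.mk₂ F (Cfsg.sympForm d F) Linear.sympForm_add_left (fun a u v => Linear.sympForm_smul_left a u v)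
    Linear.sympForm_add_right (fun a u v => Linear.sympForm_smul_right a u v)

theorem sympBilin_apply (u v : Fin d ⊕ Fin d → F) : sympBilin d F u v = Cfsg.sympForm d F u v := rfl

theorem exists_frame_matrix (hd : 0 < d) (x : ↥(Matrix.symplecticGroup (Fin d) F)) (z : F)
    (hx : ((x ^ 2 : ↥(Matrix.symplecticGroup (Fin d) F)) : Matrix (Fin d ⊕ Fin d) (Fin d ⊕ Fin d) F) =
      z • (1 : Matrix (Fin d ⊕ Fin d) (Fin d ⊕ Fin d) F)) :
    (z = 1 ∨ z = -1) ∧
    (∀ v, Matrix.toLin' (x : Matrix (Fin d ⊕ Fin d) (Fin d ⊕ Fin d) F)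
      (Matrix.toLin' (x : Matrix (Fin d ⊕ Fin d) (Fin d ⊕ Fin d) F) v) = z • v) ∧
    ∃ φ : Frame (sympBilin d F) (Matrix.toLin' (x : Matrix (Fin d ⊕ Fin d) (Fin d ⊕ Fin d) F)) z ⊤,
      Submodule.span F (Set.range (Sum.elim φ.e φ.w)) = ⊤ := by
  set g := Matrix.toLin' (x : Matrix (Fin d ⊕ Fin d) (Fin d ⊕ Fin d) F) with hg
  have hgB : ∀ u v, sympBilin d F (g u) (g v) = sympBilin d F u v := fun u v => by
    simp only [sympBilin_apply, hg, Matrix.toLin'_apply]
    exact Linear.mem_symplecticGroup_iff.mp x.2 u v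
  have hgg : ∀ v, g (g v) = z • v := by
    intro v
    rw [hg, ← Matrix.toLin'_mul_apply]
    have : (x : Matrix (Fin d ⊕ Fin d) (Fin d ⊕ Fin d) F) * (x : Matrix (Fin d ⊕ Fin d) (Fin d ⊕ Fin d) F)
        = z • (1 : Matrix (Fin d ⊕ Fin d) (Fin d ⊕ Fin d) F) := by rw [← hx]; simp [pow_two]
    rw [this]; simp [Matrix.smul_mulVec]
  have hnd : ∀ v ∈ (⊤ : Submodule F (Fin d ⊕ Fin d → F)), v ≠ 0 →
      ∃ u ∈ (⊤ : Submodule F (Fin d ⊕ Fin d → F)), sympBilin d F v u ≠ 0 := fun v _ hv =>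
    let ⟨w, hw⟩ := Linear.exists_sympForm_ne_zero hv
    ⟨w, Submodule.mem_top, hw⟩
  have hA : (sympBilin d F).IsAlt := fun v => Linear.sympForm_self v
  have hz : z = 1 ∨ z = -1 := by
    obtain ⟨w, hw⟩ := Linear.exists_sympForm_ne_zero
      (u := Pi.single (Sum.inl ⟨0, hd⟩ : Fin d ⊕ Fin d) (1 : F)) (by simp)
    have h' := hgB (g (Pi.single (Sum.inl ⟨0, hd⟩) 1)) (g w)
    rw [hgg, hgg, hgB] at h'
    simp only [map_smul, LinearMap.smul_apply, smul_eq_mul, sympBilin_apply, ← mul_assoc] at h'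
    exact mul_self_eq_one_iff.mp (mul_right_cancel₀ hw (h'.trans (one_mul _).symm))
  refine ⟨hz, hgg, ?_⟩
  obtain ⟨φ, hφ⟩ := exists_frame (sympBilin d F) g z ⊤ hA hgB hgg hz (fun v _ => Submodule.mem_top) hnd
  exact ⟨φ, top_le_iff.mp hφ⟩

end Cfsg.Agent.SympInvolution
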