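import Cfsg.Agent.Lib.Linear.Symplectic
/-
Hyperbolic frames adapted to an isometry of a non-degenerate alternating form whose square is a scalar.
* `Frame`            : a finite family of pairwise orthogonal hyperbolic pairs, permuted plane-wise by an involution
* `exists_frame`     : such a frame exists, with the monomial shape of the pairs in odd characteristic
-/

set_option autoImplicit false

namespace Cfsg.Agent.SympInvolution

variable {F V : Type*} [Field F] [AddCommGroup V] [Module F V]

/-- A hyperbolic family `(e i, w i)` inside `W` whose planes are permuted by `g` according to the involution `π`. -/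
structure Frame (B : LinearMap.BilinForm F V) (g : V →ₗ[F] V) (z : F) (W : Submodule F V) where
  ι : Type
  fintype : Fintype ι
  e : ι → V
  w : ι → V
  π : Equiv.Perm ι
  invol : ∀ i, π (π i) = i
  e_mem : ∀ i, e i ∈ W
  w_mem : ∀ i, w i ∈ W
  ee : ∀ i j, B (e i) (e j) = 0
  ww : ∀ i j, B (w i) (w j) = 0
  ew : ∀ i j, i ≠ j → B (e i) (w j) = 0
  ew_self : ∀ i, B (e i) (w i) = 1
  map_e : ∀ i, g (e i) ∈ Submodule.span F {e (π i), w (π i)}
  map_w : ∀ i, g (w i) ∈ Submodule.span F {e (π i), w (π i)}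
  shape : (2 : F) ≠ 0 → (∀ i, π i = i) ∧
    (z = 1 → ∀ i, g (e i) ∈ Submodule.span F {e i} ∧ g (w i) ∈ Submodule.span F {w i}) ∧
    (z = -1 → ∀ i, g (e i) ∈ Submodule.span F {w i} ∧ g (w i) ∈ Submodule.span F {e i})

attribute [instance] Frame.fintype

namespace Frame

variable {B : LinearMap.BilinForm F V} {g : V →ₗ[F] V} {z : F} {W : Submodule F V}

theorem we (hA : B.IsAlt) (φ : Frame B g z W) (i j : φ.ι) (h : i ≠ j) : B (φ.w i) (φ.e j) = 0 := by
  rw [← LinearMap.IsAlt.neg hA, φ.ew j i h.symm, neg_zero]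

theorem we_self (hA : B.IsAlt) (φ : Frame B g z W) (i : φ.ι) : B (φ.w i) (φ.e i) = -1 := by
  rw [← LinearMap.IsAlt.neg hA, φ.ew_self i]

/-- The part of `W` orthogonal to all the pairs. -/
def rest (φ : Frame B g z W) : Submodule F V where
  carrier := {v | v ∈ W ∧ ∀ i, B (φ.e i) v = 0 ∧ B (φ.w i) v = 0}
  zero_mem' := ⟨zero_mem _, fun i => ⟨map_zero _, map_zero _⟩⟩
  add_mem' {a b} ha hb := ⟨add_mem ha.1 hb.1, fun i => by simp [(ha.2 i).1, (ha.2 i).2, (hb.2 i).1, (hb.2 i).2]⟩
  smul_mem' c a ha := ⟨W.smul_mem c ha.1, fun i => by simp [(ha.2 i).1, (ha.2 i).2]⟩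

/-- Gluing two frames, the second orthogonal to the first. -/
def append (hA : B.IsAlt) (φ : Frame B g z W) (ψ : Frame B g z φ.rest) : Frame B g z W where
  ι := φ.ι ⊕ ψ.ι
  fintype := inferInstance
  e := Sum.elim φ.e ψ.e
  w := Sum.elim φ.w ψ.w
  π := Equiv.sumCongr φ.π ψ.π
  invol i := by rcases i with i | i <;> simp [φ.invol, ψ.invol]
  e_mem i := by rcases i with i | i <;> simp [φ.e_mem, (ψ.e_mem _).1]
  w_mem i := by rcases i with i | i <;> simp [φ.w_mem, (ψ.w_mem _).1]
  ee i j := by
    rcases i with i | i <;> rcases j with j | j <;> simp only [Sum.elim_inl, Sum.elim_inr]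
    · exact φ.ee i j
    · exact ((ψ.e_mem j).2 i).1
    · rw [← LinearMap.IsAlt.neg hA, ((ψ.e_mem i).2 j).1, neg_zero]
    · exact ψ.ee i j
  ww i j := by
    rcases i with i | i <;> rcases j with j | j <;> simp only [Sum.elim_inl, Sum.elim_inr]
    · exact φ.ww i j
    · exact ((ψ.w_mem j).2 i).2
    · rw [← LinearMap.IsAlt.neg hA, ((ψ.w_mem i).2 j).2, neg_zero]
    · exact ψ.ww i j
  ew i j h := by
    rcases i with i | i <;> rcases j with j | j <;> simp only [Sum.elim_inl, Sum.elim_inr]
    · exact φ.ew i j fun h' => h (congrArg _ h')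
    · exact ((ψ.w_mem j).2 i).1
    · rw [← LinearMap.IsAlt.neg hA, ((ψ.e_mem i).2 j).2, neg_zero]
    · exact ψ.ew i j fun h' => h (congrArg _ h')
  ew_self i := by rcases i with i | i <;> simp [φ.ew_self, ψ.ew_self]
  map_e i := by rcases i with i | i <;> simp only [Sum.elim_inl, Sum.elim_inr, Equiv.sumCongr_apply, Sum.map_inl, Sum.map_inr] <;> [exact φ.map_e i; exact ψ.map_e i]
  map_w i := by rcases i with i | i <;> simp only [Sum.elim_inl, Sum.elim_inr, Equiv.sumCongr_apply, Sum.map_inl, Sum.map_inr] <;> [exact φ.map_w i; exact ψ.map_w i]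
  shape h2 := by
    refine ⟨?_, ?_, ?_⟩
    · rintro (i | i) <;> simp [(φ.shape h2).1, (ψ.shape h2).1]
    · rintro hz (i | i)
      · exact (φ.shape h2).2.1 hz i
      · exact (ψ.shape h2).2.1 hz i
    · rintro hz (i | i)
      · exact (φ.shape h2).2.2 hz i
      · exact (ψ.shape h2).2.2 hz i

/-- The frame vectors span a subspace onto which every vector projects with remainder in `rest`. -/
theorem sub_mem_rest (hA : B.IsAlt) (φ : Frame B g z W) {v : V} (hv : v ∈ W) :
    v - ∑ i, B (φ.e i) v • φ.w i + ∑ i, B (φ.w i) v • φ.e i ∈ φ.rest := by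
  classical
  refine ⟨add_mem (sub_mem hv (W.sum_mem fun i _ => W.smul_mem _ (φ.w_mem i)))
    (W.sum_mem fun i _ => W.smul_mem _ (φ.e_mem i)), fun j => ⟨?_, ?_⟩⟩
  · simp only [map_add, map_sub, map_sum, map_smul, φ.ee, smul_zero, Finset.sum_const_zero, add_zero]
    rw [Finset.sum_eq_single j (fun i _ h => by rw [φ.ew j i h.symm, smul_zero]) (by simp), φ.ew_self]
    simp
  · simp only [map_add, map_sub, map_sum, map_smul, φ.ww, smul_zero, Finset.sum_const_zero, sub_zero]
    rw [Finset.sum_eq_single j (fun i _ h => by rw [φ.we hA j i h.symm, smul_zero]) (by simp), φ.we_self hA]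
    simp

theorem span_le (φ : Frame B g z W) (i : φ.ι) :
    Submodule.span F {φ.e i, φ.w i} ≤ Submodule.span F (Set.range (Sum.elim φ.e φ.w)) := by
  rw [Submodule.span_le]
  rintro x (rfl | rfl)
  · exact Submodule.subset_span ⟨.inl i, rfl⟩
  · exact Submodule.subset_span ⟨.inr i, rfl⟩

theorem rest_inv (φ : Frame B g z W) (hgB : ∀ u v, B (g u) (g v) = B u v) (hz : z ≠ 0)
    (hgg : ∀ v, g (g v) = z • v) (hW : ∀ v ∈ W, g v ∈ W) : ∀ v ∈ φ.rest, g v ∈ φ.rest := by
  intro v hv
  refine ⟨hW v hv.1, fun i => ?_⟩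
  have key : ∀ x ∈ Submodule.span F (Set.range (Sum.elim φ.e φ.w)), B x v = 0 := by
    intro x hx
    induction hx using Submodule.span_induction with
    | mem x hx => obtain ⟨(j | j), rfl⟩ := hx <;> simp [(hv.2 j).1, (hv.2 j).2]
    | zero => simp
    | add a b _ _ ha hb => simp [ha, hb]
    | smul c a _ ha => simp [ha]
  constructor
  · have h1 := hgB (g (φ.e i)) v
    rw [hgg, map_smul, LinearMap.smul_apply, key _ (φ.span_le _ (φ.map_e i))] at h1
    simpa [hz] using h1
  · have h1 := hgB (g (φ.w i)) v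
    rw [hgg, map_smul, LinearMap.smul_apply, key _ (φ.span_le _ (φ.map_w i))] at h1
    simpa [hz] using h1

theorem rest_nondeg (hA : B.IsAlt) (φ : Frame B g z W) (hW : ∀ v ∈ W, v ≠ 0 → ∃ u ∈ W, B v u ≠ 0) :
    ∀ v ∈ φ.rest, v ≠ 0 → ∃ u ∈ φ.rest, B v u ≠ 0 := by
  intro v hv hv0
  obtain ⟨u, hu, huv⟩ := hW v hv.1 hv0
  refine ⟨_, φ.sub_mem_rest hA hu, ?_⟩
  simp only [map_add, map_sub, map_sum, map_smul]
  have h1 : ∀ i, B v (φ.w i) = 0 := fun i => by rw [← LinearMap.IsAlt.neg hA, (hv.2 i).2, neg_zero]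
  have h2 : ∀ i, B v (φ.e i) = 0 := fun i => by rw [← LinearMap.IsAlt.neg hA, (hv.2 i).1, neg_zero]
  simpa [h1, h2] using huv

theorem rest_lt (hA : B.IsAlt) (φ : Frame B g z W) [Nonempty φ.ι] : φ.rest < W := by
  refine lt_of_le_of_ne (fun v hv => hv.1) fun h => ?_
  obtain ⟨i⟩ := ‹Nonempty φ.ι›
  have := (h.symm ▸ φ.e_mem i : φ.e i ∈ φ.rest).2 i
  rw [φ.we_self hA] at this
  simpa using this.2

/-- The frame vectors are linearly independent. -/
theorem linearIndependent (hA : B.IsAlt) (φ : Frame B g z W) :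
    LinearIndependent F (Sum.elim φ.e φ.w) := by
  classical
  rw [Fintype.linearIndependent_iff]
  intro c hc
  simp only [Fintype.sum_sum_type, Sum.elim_inl, Sum.elim_inr] at hc
  rintro (j | j)
  · have h := congrArg (B (φ.w j)) hc
    simp only [map_add, map_sum, map_smul, φ.ww, smul_zero, Finset.sum_const_zero, add_zero, map_zero] at h
    rw [Finset.sum_eq_single j (fun i _ hi => by rw [φ.we hA j i hi.symm, smul_zero]) (by simp), φ.we_self hA] at h
    simpa using h
  · have h := congrArg (B (φ.e j)) hc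
    simp only [map_add, map_sum, map_smul, φ.ee, smul_zero, Finset.sum_const_zero, zero_add, map_zero] at h
    rw [Finset.sum_eq_single j (fun i _ hi => by rw [φ.ew j i hi.symm, smul_zero]) (by simp), φ.ew_self] at h
    simpa using h

end Frame

variable (B : LinearMap.BilinForm F V) (g : V →ₗ[F] V) (z : F) (W : Submodule F V)

/-- One hyperbolic pair whose plane is fixed by `g`. -/
def singleFrame (hA : B.IsAlt) (e w : V) (he : e ∈ W) (hw : w ∈ W) (hew : B e w = 1)
    (hge : g e ∈ Submodule.span F {e, w}) (hgw : g w ∈ Submodule.span F {e, w})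
    (hsh : (2 : F) ≠ 0 → (z = 1 → g e ∈ Submodule.span F {e} ∧ g w ∈ Submodule.span F {w}) ∧
      (z = -1 → g e ∈ Submodule.span F {w} ∧ g w ∈ Submodule.span F {e})) : Frame B g z W where
  ι := Unit
  fintype := inferInstance
  e := fun _ => e
  w := fun _ => w
  π := 1
  invol _ := rfl
  e_mem _ := he
  w_mem _ := hw
  ee _ _ := hA e
  ww _ _ := hA w
  ew i j h := absurd (Subsingleton.elim i j) h
  ew_self _ := hew
  map_e _ := hge
  map_w _ := hgw
  shape h2 := ⟨fun _ => rfl, fun hz _ => (hsh h2).1 hz, fun hz _ => (hsh h2).2 hz⟩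

variable [FiniteDimensional F V]

theorem exists_small_frame (hA : B.IsAlt) (hgB : ∀ u v, B (g u) (g v) = B u v)
    (hgg : ∀ v, g (g v) = z • v) (hz : z = 1 ∨ z = -1) (hWg : ∀ v ∈ W, g v ∈ W)
    (hW : ∀ v ∈ W, v ≠ 0 → ∃ u ∈ W, B v u ≠ 0) (hne : W ≠ ⊥) :
    ∃ φ : Frame B g z W, Nonempty φ.ι := by
  have hz0 : z ≠ 0 := by rcases hz with rfl | rfl <;> simp
  obtain ⟨a, ha, ha0⟩ := Submodule.exists_mem_ne_zero_of_ne_bot hne
  have hpart : ∀ v ∈ W, v ≠ 0 → ∃ u ∈ W, B v u = 1 := by
    intro v hv hv0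
    obtain ⟨u, hu, h⟩ := hW v hv hv0
    exact ⟨(B v u)⁻¹ • u, W.smul_mem _ hu, by rw [map_smul, smul_eq_mul, inv_mul_cancel₀ h]⟩
  have hmem_e : ∀ e w : V, e ∈ Submodule.span F {e, w} := fun e w => Submodule.subset_span (by simp)
  have hmem_w : ∀ e w : V, w ∈ Submodule.span F {e, w} := fun e w => Submodule.subset_span (by simp)
  -- a vector moved out of its line gives a fixed plane
  have caseA : (∃ u ∈ W, B u (g u) ≠ 0) → ((2 : F) ≠ 0 → z ≠ 1) → ∃ φ : Frame B g z W, Nonempty φ.ι := by
    rintro ⟨u, hu, h⟩ hz1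
    set c := B u (g u) with hc
    refine ⟨singleFrame B g z W hA u (c⁻¹ • g u) hu (W.smul_mem _ (hWg u hu))
      (by rw [map_smul, smul_eq_mul, inv_mul_cancel₀ h]) ?_ ?_ ?_, ⟨()⟩⟩
    · have : g u = c • (c⁻¹ • g u) := by rw [smul_smul, mul_inv_cancel₀ h, one_smul]
      rw [this]; exact Submodule.smul_mem _ _ (by rw [← this]; exact hmem_w _ _)
    · rw [map_smul, hgg, smul_smul]
      exact Submodule.smul_mem _ _ (hmem_e _ _)
    · refine fun h2 => ⟨fun hh => absurd hh (hz1 h2), fun _ => ⟨?_, ?_⟩⟩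
      · exact Submodule.mem_span_singleton.mpr ⟨c, by rw [smul_smul, mul_inv_cancel₀ h, one_smul]⟩
      · rw [map_smul, hgg, smul_smul]
        exact Submodule.smul_mem _ _ (Submodule.mem_span_singleton_self _)
  by_cases h2 : (2 : F) = 0
  · have hz1 : z = 1 := by
      rcases hz with rfl | rfl
      · rfl
      · linear_combination -h2
    subst hz1
    simp only [one_smul] at hgg
    by_cases hA' : ∃ u ∈ W, B u (g u) ≠ 0
    · exact caseA hA' (fun h => absurd h2 h)
    push Not at hA'
    by_cases hid : ∀ v ∈ W, g v = v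
    · obtain ⟨b, hb, hab⟩ := hpart a ha ha0
      exact ⟨singleFrame B g 1 W hA a b ha hb hab (by rw [hid a ha]; exact hmem_e _ _)
        (by rw [hid b hb]; exact hmem_w _ _) (fun h => absurd h2 h), ⟨()⟩⟩
    push Not at hid
    obtain ⟨u, hu, hgu⟩ := hid
    -- find v with B u v = 1 and B (g u) v = 0
    obtain ⟨t, ht, ht1⟩ := hpart (u - g u) (sub_mem hu (hWg u hu)) (sub_ne_zero.mpr (Ne.symm hgu))
    -- combination killing `g u`
    obtain ⟨v, hv, hv1, hv2⟩ : ∃ v ∈ W, B u v = 1 ∧ B (g u) v = 0 := by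
      by_cases hk : ∃ k ∈ W, B (u - g u) k = 0 ∧ B u k ≠ 0
      · obtain ⟨k, hk, hk0, hk1⟩ := hk
        refine ⟨t + ((1 - B u t) * (B u k)⁻¹) • k, add_mem ht (W.smul_mem _ hk), ?_, ?_⟩
        · rw [map_add, map_smul, smul_eq_mul, mul_assoc, inv_mul_cancel₀ hk1]; ring
        · simp only [map_sub, LinearMap.sub_apply] at hk0 ht1
          rw [map_add, map_smul, smul_eq_mul, show B (g u) k = B u k by linear_combination -hk0,
            mul_assoc, inv_mul_cancel₀ hk1]
          linear_combination -ht1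
      · exfalso
        push Not at hk
        set s := B u t with hs
        have hz' : u - s • (u - g u) = 0 := by
          by_contra h0
          obtain ⟨x, hx, hx0⟩ := hW _ (sub_mem hu (W.smul_mem _ (sub_mem hu (hWg u hu)))) h0
          refine hx0 ?_
          have := hk (x - B (u - g u) x • t) (sub_mem hx (W.smul_mem _ ht))
            (by rw [map_sub (B (u - g u)), map_smul, smul_eq_mul, ht1, mul_one, sub_self])
          rw [map_sub (B u), map_smul, smul_eq_mul, ← hs] at this
          rw [map_sub B u, LinearMap.sub_apply, map_smul, LinearMap.smul_apply, smul_eq_mul]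
          linear_combination this
        rw [sub_eq_zero] at hz'
        refine hgu ?_
        have hm : ∀ v : V, -v = v := fun v =>
          neg_eq_of_add_eq_zero_left (by rw [← two_smul F v, h2, zero_smul])
        have hgu' := congrArg g hz'
        rw [map_smul, map_sub, hgg] at hgu'
        rw [hgu', show g u - u = -(u - g u) by abel, hm, ← hz']
    have hswap : ∀ x y, B x (g y) = B (g x) y := fun x y => by rw [← hgB x (g y), hgg]
    refine ⟨{ ι := Bool, fintype := inferInstance,
              e := fun i => if i then g u else u,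
              w := fun i => if i then g v else v,
              π := Equiv.swap false true,
              invol := fun i => Equiv.swap_apply_self _ _ i,
              e_mem := ?_, w_mem := ?_, ee := ?_, ww := ?_, ew := ?_, ew_self := ?_, map_e := ?_, map_w := ?_,
              shape := fun h => absurd h2 h }, ⟨false⟩⟩
    · rintro (_ | _) <;> simp [hu, hWg u hu]
    · rintro (_ | _) <;> simp [hv, hWg v hv]
    · rintro (_ | _) (_ | _) <;> simp [hA u, hA (g u), hA' u hu]
      rw [← LinearMap.IsAlt.neg hA, hA' u hu, neg_zero]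
    · rintro (_ | _) (_ | _) <;> simp [hA v, hA (g v), hA' v hv]
      rw [← LinearMap.IsAlt.neg hA, hA' v hv, neg_zero]
    · rintro (_ | _) (_ | _) h <;> first | exact absurd rfl h | simp [hswap u v, hv2]
    · rintro (_ | _) <;> simp [hv1, hgB u v]
    · rintro (_ | _) <;> simp [hgg] <;> exact Submodule.subset_span (by simp)
    · rintro (_ | _) <;> simp [hgg] <;> exact Submodule.subset_span (by simp)
  · rcases hz with rfl | rfl
    · simp only [one_smul] at hgg
      obtain ⟨e, he, ε, hε, hge, he0⟩ : ∃ e ∈ W, ∃ ε : F, ε * ε = 1 ∧ g e = ε • e ∧ e ≠ 0 := by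
        by_cases h : a + g a = 0
        · exact ⟨a, ha, -1, by ring, by rw [neg_one_smul]; exact eq_neg_of_add_eq_zero_right h, ha0⟩
        · exact ⟨a + g a, add_mem ha (hWg a ha), 1, by ring, by rw [map_add, hgg, one_smul, add_comm], h⟩
      obtain ⟨y, hy, hy1⟩ := hpart e he he0
      have hey : B e (g y) = ε := by
        have h := hgB e (g y)
        rw [hgg, hge, map_smul, LinearMap.smul_apply, hy1, smul_eq_mul, mul_one] at h
        exact h.symm
      set w := (2 : F)⁻¹ • (y + ε • g y) with hw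
      have hgw : g w = ε • w := by
        rw [hw, map_smul, map_add, map_smul, hgg]; simp only [smul_add, smul_smul]
        match_scalars <;> first | linear_combination (0 : F) * hε | linear_combination (2⁻¹ : F) * hε | linear_combination (-2⁻¹ : F) * hε
      refine ⟨singleFrame B g 1 W hA e w he (W.smul_mem _ (add_mem hy (W.smul_mem _ (hWg y hy)))) ?_ ?_ ?_
        (fun _ => ⟨fun _ => ⟨?_, ?_⟩, fun h => absurd h ?_⟩), ⟨()⟩⟩
      · rw [hw, map_smul, map_add, map_smul, hy1, hey, smul_eq_mul, smul_eq_mul, hε]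
        field_simp
        norm_num
      · rw [hge]; exact Submodule.smul_mem _ _ (hmem_e _ _)
      · rw [hgw]; exact Submodule.smul_mem _ _ (hmem_w _ _)
      · rw [hge]; exact Submodule.smul_mem _ _ (Submodule.mem_span_singleton_self _)
      · rw [hgw]; exact Submodule.smul_mem _ _ (Submodule.mem_span_singleton_self _)
      · intro h; exact h2 (by linear_combination h)
    · refine caseA ?_ (fun _ h => h2 (by linear_combination -h))
      by_contra hA'
      push Not at hA'
      obtain ⟨b, hb, hab⟩ := hW a ha ha0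
      refine hab ?_
      -- polarising `B x (g x) = 0` gives that `g` is self-adjoint, but it is skew-adjoint
      have hsk : ∀ x ∈ W, ∀ y ∈ W, B x (g y) + B y (g x) = 0 := fun x hx y hy => by
        have := hA' (x + y) (add_mem hx hy)
        simp only [map_add, LinearMap.add_apply, hA' x hx, hA' y hy] at this
        linear_combination this
      have h1 := hsk a ha (g b) (hWg b hb)
      rw [hgg, hgB, neg_smul, one_smul, map_neg, ← LinearMap.IsAlt.neg hA b a, neg_neg] at h1
      rw [← LinearMap.IsAlt.neg hA b a]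
      have : (2 : F) * B b a = 0 := by linear_combination h1
      simpa [h2] using this

theorem exists_frame (hA : B.IsAlt) (hgB : ∀ u v, B (g u) (g v) = B u v)
    (hgg : ∀ v, g (g v) = z • v) (hz : z = 1 ∨ z = -1) (hWg : ∀ v ∈ W, g v ∈ W)
    (hW : ∀ v ∈ W, v ≠ 0 → ∃ u ∈ W, B v u ≠ 0) :
    ∃ φ : Frame B g z W, W ≤ Submodule.span F (Set.range (Sum.elim φ.e φ.w)) := by
  have hz0 : z ≠ 0 := by rcases hz with rfl | rfl <;> simp
  induction W using WellFoundedLT.induction with
  | _ W ih =>
    by_cases hne : W = ⊥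
    · exact ⟨{ ι := Empty, fintype := inferInstance, e := Empty.elim, w := Empty.elim, π := 1,
               invol := fun i => i.elim, e_mem := fun i => i.elim, w_mem := fun i => i.elim,
               ee := fun i => i.elim, ww := fun i => i.elim, ew := fun i => i.elim, ew_self := fun i => i.elim,
               map_e := fun i => i.elim, map_w := fun i => i.elim,
               shape := fun _ => ⟨fun i => i.elim, fun _ i => i.elim, fun _ i => i.elim⟩ }, by simp [hne]⟩
    obtain ⟨φ, hφ⟩ := exists_small_frame B g z W hA hgB hgg hz hWg hW hne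
    obtain ⟨ψ, hψ⟩ := ih φ.rest (φ.rest_lt hA) (φ.rest_inv hgB hz0 hgg hWg) (φ.rest_nondeg hA hW)
    refine ⟨φ.append hA ψ, fun v hv => ?_⟩
    have h1 := hψ (φ.sub_mem_rest hA hv)
    have hle : Submodule.span F (Set.range (Sum.elim ψ.e ψ.w)) ≤
        Submodule.span F (Set.range (Sum.elim (φ.append hA ψ).e (φ.append hA ψ).w)) := by
      refine Submodule.span_mono (Set.range_subset_iff.mpr ?_)
      rintro (i | i)
      · exact ⟨.inl (.inr i), rfl⟩
      · exact ⟨.inr (.inr i), rfl⟩
    have h2 : ∀ i, φ.e i ∈ Submodule.span F (Set.range (Sum.elim (φ.append hA ψ).e (φ.append hA ψ).w)) :=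
      fun i => Submodule.subset_span ⟨.inl (.inl i), rfl⟩
    have h3 : ∀ i, φ.w i ∈ Submodule.span F (Set.range (Sum.elim (φ.append hA ψ).e (φ.append hA ψ).w)) :=
      fun i => Submodule.subset_span ⟨.inr (.inl i), rfl⟩
    have := add_mem (sub_mem (hle h1) (Submodule.sum_mem _ (t := Finset.univ) fun i _ => Submodule.smul_mem _ (B (φ.w i) v) (h2 i)))
      (Submodule.sum_mem _ (t := Finset.univ) fun i _ => Submodule.smul_mem _ (B (φ.e i) v) (h3 i))
    convert this using 1
    abel

end Cfsg.Agent.SympInvolution
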